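import Cfsg.Agent.Lib.Kondo.U1

/-! An overgroup of an alternating subgroup that contains the centralizer of a double transposition. -/

set_option autoImplicit false
set_option linter.unusedSectionVars false

namespace H69.A5

open Subgroup Equiv H24.Ko

variable {α : Type*} [Fintype α] [DecidableEq α] {G : Type*} [Group G] [Finite G]

/-- `H24.Ko.top_of_alt` for an overgroup `M` whose 2-elements lie in the alternating subgroup -/
theorem top_of_alt' (E : Emb (alternatingGroup α) G) {M : Subgroup G} (hle : E.hom.range ≤ M)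
    (hM : ∀ x ∈ M, x * x * (x * x) = 1 → x ∈ E.hom.range)
    (nf : ∀ σ ∈ alternatingGroup α, ∀ τ ∈ alternatingGroup α, σ * σ = 1 → τ * τ = 1 →
      IsConj (E.f σ) (E.f τ) → σ.support.card = τ.support.card)
    {t0 w0 : Perm α} (ht : t0 ∈ alternatingGroup α) (ht2 : t0 * t0 = 1)
    (ht4 : t0.support.card = 4) (hC : centralizer {E.f t0} ≤ M)
    (hw : w0 ∈ alternatingGroup α) (hw2 : w0 * w0 = 1) (hw1 : w0 ≠ 1)
    (hw4 : w0.support.card ≠ 4) : M = ⊤ := by
  have sq : ∀ σ ∈ alternatingGroup α, σ * σ = 1 → E.f σ * E.f σ = 1 := fun σ a b => by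
    rw [← E.mul _ a _ a, b, E.one]
  have sq' : ∀ σ ∈ alternatingGroup α, E.f σ * E.f σ = 1 → σ * σ = 1 := fun σ a b =>
    E.eq_one (mul_mem a a) (by rw [E.mul _ a _ a, b])
  have hM' : ∀ x ∈ M, x * x = 1 → x ∈ E.hom.range := fun x hx h => hM x hx (by rw [h, one_mul])
  have mm : ∀ {σ}, σ ∈ alternatingGroup α → E.f σ ∈ M := fun h => hle (E.mem h)
  have cj : ∀ x a b : G, x * a * x⁻¹ = b → IsConj a b := fun x a b h => isConj_iff.2 ⟨x, h⟩
  have R : ∀ σ ∈ alternatingGroup α, σ * σ = 1 → centralizer {E.f σ} ≤ M →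
      ∀ g : G, g⁻¹ * E.f σ * g ∈ M → g ∈ M := by
    intro σ a b hc g hg
    obtain ⟨τ, hτ, e⟩ := E.exists_of_mem (hM' _ hg (by
      calc _ = g⁻¹ * (E.f σ * E.f σ) * g := by group
        _ = 1 := by rw [sq σ a b]; group))
    have h2 : τ * τ = 1 := sq' τ hτ (by
      rw [e]
      calc _ = g⁻¹ * (E.f σ * E.f σ) * g := by group
        _ = 1 := by rw [sq σ a b]; group)
    obtain ⟨c, hc', e'⟩ := conj_alt b h2 (nf σ a τ hτ b h2 (cj g⁻¹ _ _ (by rw [e, inv_inv])))
    have h3 : g * E.f c ∈ centralizer {E.f σ} := by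
      rw [mem_centralizer_singleton_iff]
      rw [← e', E.conj hc' a] at e
      calc _ = g * (E.f c * E.f σ * (E.f c)⁻¹) * E.f c := by group
        _ = _ := by rw [e]; group
    simpa using mul_mem (hc h3) (inv_mem (mm hc'))
  have C4 : ∀ σ ∈ alternatingGroup α, σ * σ = 1 → σ.support.card = 4 →
      centralizer {E.f σ} ≤ M := by
    intro σ a b h g hg
    obtain ⟨c, hc, e⟩ := conj_alt ht2 b (ht4.trans h.symm)
    have h3 : (E.f c)⁻¹ * g * E.f c ∈ centralizer {E.f t0} := by
      rw [mem_centralizer_singleton_iff] at hg ⊢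
      rw [← e, E.conj hc ht] at hg
      calc _ = (E.f c)⁻¹ * (g * (E.f c * E.f t0 * (E.f c)⁻¹)) * E.f c := by group
        _ = _ := by rw [hg]; group
    have := mul_mem (mul_mem (mm hc) (hC h3)) (inv_mem (mm hc))
    simpa [mul_assoc] using this
  have cc : ∀ {a s g : G}, s * (g * a * g⁻¹) = g * a * g⁻¹ * s → g⁻¹ * s * g ∈ centralizer {a} := by
    intro a s g h
    rw [mem_centralizer_singleton_iff]
    calc _ = g⁻¹ * (s * (g * a * g⁻¹)) * g := by group
      _ = _ := by rw [h]; group
  have C : ∀ (j : ℕ), ∀ w ∈ alternatingGroup α, w * w = 1 → w ≠ 1 → w.support.card = j →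
      centralizer {E.f w} ≤ M := by
    intro j
    induction j using Nat.strong_induction_on with
    | _ j ih =>
    intro w hwA hww hw1 hj g hg
    by_cases h4 : j = 4
    · exact C4 w hwA hww (hj.trans h4) hg
    have h8 : 8 ≤ j := by
      obtain ⟨k, hk⟩ := four_dvd hww hwA
      have h0 : w.support.card ≠ 0 := by simpa using hw1
      omega
    have ww : ∀ z, w (w z) = z := fun z => by rw [← Perm.mul_apply, hww]; rfl
    obtain ⟨t, v, tA, vA, tt, vv, tw, vw, t4, v4, tz, vs⟩ := exists_pair hww (by omega)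
    have tw' : ∀ z ∈ t.support, w z ∈ t.support := fun z hz => by
      rw [← tz z hz]; exact Perm.apply_mem_support.2 hz
    have sqw : ∀ σ : Perm α, σ * σ = 1 → σ * w = w * σ → σ * w * (σ * w) = 1 := fun σ a b => by
      rw [mul_assoc, ← mul_assoc w, ← b, mul_assoc σ w, hww, mul_one, a]
    have htw : (t * w).support.card + 4 ≤ j := by
      rw [← t4, ← hj, ← Finset.card_union_of_disjoint]
      · refine Finset.card_le_card fun z hz => ?_
        rcases Finset.mem_union.1 hz with h | h
        · by_contra h1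
          rw [Perm.notMem_support] at h1
          rw [Perm.mem_support, Perm.mul_apply, h1] at h
          exact h ((tz z (Perm.mem_support.2 h)).trans h1)
        · rw [Perm.mem_support, ← tz z h]; exact Perm.mem_support.1 h
      · rw [Finset.disjoint_right]
        intro z hz
        rw [Perm.notMem_support, Perm.mul_apply, tz _ (tw' z hz), ww]
    have hg' := mem_centralizer_singleton_iff.1 hg
    have haX : E.f t ∈ centralizer {E.f w} :=
      mem_centralizer_singleton_iff.2 ((E.comm_iff tA hwA).2 tw)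
    have hvX : E.f v ∈ centralizer {E.f w} :=
      mem_centralizer_singleton_iff.2 ((E.comm_iff vA hwA).2 vw)
    -- conjugacy inside the centralizer of `w`
    have cw : ∀ σ ∈ alternatingGroup α, ∀ τ ∈ alternatingGroup α, σ * σ = 1 → τ * τ = 1 →
        σ * w = w * σ → τ * w = w * τ → ∀ x ∈ centralizer {E.f w}, x * E.f σ * x⁻¹ = E.f τ →
        σ.support.card = τ.support.card ∧ (σ * w).support.card = (τ * w).support.card := by
      intro σ a τ b c d e f x hx h
      refine ⟨nf σ a τ b c d (cj x _ _ h), nf _ (mul_mem a hwA) _ (mul_mem b hwA) (sqw σ c e)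
        (sqw τ d f) (cj x _ _ ?_)⟩
      rw [E.mul _ a _ hwA, E.mul _ b _ hwA, ← h]
      calc _ = x * E.f σ * x⁻¹ * (x * E.f w * x⁻¹) := by group
        _ = _ := by rw [mem_centralizer_singleton_iff.1 hx]; group
    rcases dih (centralizer {E.f w}) (a := E.f t) (b := g * E.f v * g⁻¹) (sq t tA tt) (by
        calc _ = g * (E.f v * E.f v) * g⁻¹ := by group
          _ = 1 := by rw [sq v vA vv]; group) haX (mul_mem (mul_mem hg hvX) (inv_mem hg)) with
      ⟨x, hx, e⟩ | ⟨s, hsX, ss, s1, sa, sb, hs⟩
    · have := (cw t tA v vA tt vv tw vw (g⁻¹ * x) (mul_mem (inv_mem hg) hx) (by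
        calc _ = g⁻¹ * (x * E.f t * x⁻¹) * g := by group
          _ = _ := by rw [e]; group)).2
      rw [vs] at this
      omega
    obtain ⟨σ, σA, rfl⟩ := E.exists_of_mem
      (hM' _ (C4 t tA tt t4 (mem_centralizer_singleton_iff.2 sa)) ss)
    have σσ := sq' σ σA ss
    have σ1 : σ ≠ 1 := fun e => s1 (by rw [e, E.one])
    have σt := (E.comm_iff σA tA).1 sa
    have σw := (E.comm_iff σA hwA).1 (mem_centralizer_singleton_iff.1 hsX)
    have hs2 : g⁻¹ * E.f σ * g ∈ M := C4 v vA vv v4 (cc sb)
    by_cases hlt : σ.support.card < j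
    · exact R σ σA σσ (ih _ hlt σ σA σσ σ1 rfl) g hs2
    have yA := mul_mem tA σA
    have yy : t * σ * (t * σ) = 1 := by
      rw [mul_assoc, ← mul_assoc σ, σt, mul_assoc t σ, σσ, mul_one, tt]
    have yw : t * σ * w = w * (t * σ) := by rw [mul_assoc, σw, ← mul_assoc, tw, mul_assoc]
    have hy : (t * σ).support.card = 4 ∧ (t * σ * w).support.card ≤ j := by
      rcases hs with ⟨x, hx, e⟩ | ⟨ρ, hρ, -, e, -⟩
      · have := cw v vA _ yA vv yy vw yw (x * g) (mul_mem hx hg) (by
          rw [E.mul _ tA _ σA, ← e]; group)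
        rw [vs] at this
        omega
      · have := cw t tA _ yA tt yy tw yw ρ⁻¹ (inv_mem hρ) (by rw [E.mul _ tA _ σA, ← e, inv_inv])
        omega
    have eσ : σ = t * (t * σ) := by rw [← mul_assoc, tt, one_mul]
    have hdis : Disjoint t.support (t * σ).support := by
      have h1 : σ.support.card ≤ (t.support ∪ (t * σ).support).card := by
        refine Finset.card_le_card ?_
        conv_lhs => rw [eσ]
        exact Perm.support_mul_le _ _
      have h2 := Finset.card_union_add_card_inter t.support (t * σ).support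
      rw [Finset.disjoint_iff_inter_eq_empty, ← Finset.card_eq_zero]
      omega
    have yT : ∀ z ∈ t.support, (t * σ) z = z := fun z hz =>
      Perm.notMem_support.1 (Finset.disjoint_left.1 hdis hz)
    by_cases h1 : σ * w = 1
    · have e1 : t * σ * w = t := by rw [mul_assoc, h1, mul_one]
      rcases hs with ⟨x, hx, e⟩ | ⟨ρ, hρ, ρρ, e, -, hs⟩
      · have := (cw v vA _ yA vv yy vw yw (x * g) (mul_mem hx hg) (by
          rw [E.mul _ tA _ σA, ← e]; group)).2
        rw [vs, e1] at this
        omega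
      obtain ⟨ρ, ρA, rfl⟩ := E.exists_of_mem (hM _ (R t tA tt (C4 t tA tt t4) ρ
        (by rw [e]; exact mul_mem (mm tA) (mm σA))) (by rw [ρρ, ss]))
      have y2A := mul_mem tA ρA
      have hy2 : t * ρ * (t * ρ) = 1 ∧ (t * ρ).support.card = 4 := by
        have aux : ∀ (τ : Perm α) (x : G), τ ∈ alternatingGroup α → τ * τ = 1 →
            τ.support.card = 4 → x * E.f τ * x⁻¹ = E.f t * E.f ρ →
            t * ρ * (t * ρ) = 1 ∧ (t * ρ).support.card = 4 := by
          intro τ x a b c d
          rw [← E.mul _ tA _ ρA] at d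
          have h2 : t * ρ * (t * ρ) = 1 := sq' _ y2A (by
            rw [← d]
            calc _ = x * (E.f τ * E.f τ) * x⁻¹ := by group
              _ = 1 := by rw [sq τ a b]; group)
          exact ⟨h2, (nf τ a _ y2A b h2 (cj x _ _ d)).symm.trans c⟩
        rcases hs with ⟨x, -, e⟩ | ⟨x, -, e⟩
        · exact aux t x tA tt t4 e
        · exact aux v (x * g) vA vv v4 (by rw [← e]; group)
      have e2 : t * σ = (t * ρ) * t * (t * ρ)⁻¹ := by
        have : ρ⁻¹ * t * ρ = t * σ := E.inj _ (mul_mem (mul_mem (inv_mem ρA) tA) ρA) _ yA (by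
          rw [E.mul _ (mul_mem (inv_mem ρA) tA) _ ρA, E.mul _ (inv_mem ρA) _ tA, E.inv ρA, e,
            E.mul _ tA _ σA])
        rw [← this, ← inv_eq_of_mul_eq_one_right hy2.1, inv_inv, mul_inv_rev,
          inv_eq_of_mul_eq_one_right tt, mul_assoc _ t t, tt]
        group
      have h2 : ∀ z ∈ t.support, (t * ρ) z ∉ t.support := by
        intro z hz h
        have := yT _ h
        rw [e2] at this
        rw [← Perm.mul_apply, inv_mul_cancel_right] at this
        exact Perm.mem_support.1 hz ((t * ρ).injective this)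
      have h3 : t.support ⊆ (t * ρ).support := fun z hz =>
        Perm.mem_support.2 fun e => h2 z hz (by rw [e]; exact hz)
      obtain ⟨z, hz⟩ : t.support.Nonempty := Finset.card_pos.1 (by omega)
      have h5 := Finset.eq_of_subset_of_card_le h3 (by omega)
      exact absurd (h5 ▸ Perm.apply_mem_support.2 (h3 hz)) (h2 z hz)
    · have h2 : (σ * w).support.card + 4 ≤ (t * σ * w).support.card := by
        rw [← t4, ← Finset.card_union_of_disjoint]
        · refine Finset.card_le_card fun z hz => ?_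
          rcases Finset.mem_union.1 hz with h | h
          · by_contra h3
            rw [Perm.notMem_support] at h3
            by_cases h5 : z ∈ t.support
            · rw [Perm.mul_apply, yT _ (tw' z h5), ← tz z h5] at h3
              exact Perm.mem_support.1 h5 h3
            · refine Perm.mem_support.1 h ?_
              rw [eσ, mul_assoc, Perm.mul_apply, h3, Perm.notMem_support.1 h5]
          · rw [Perm.mem_support, Perm.mul_apply, yT _ (tw' z h), ← tz z h]
            exact Perm.mem_support.1 h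
        · rw [Finset.disjoint_right]
          intro z hz
          rw [Perm.notMem_support, eσ, mul_assoc, Perm.mul_apply, Perm.mul_apply,
            yT _ (tw' z hz), tz _ (tw' z hz), ww]
      refine R _ (mul_mem σA hwA) (sqw σ σσ σw)
        (ih _ (by omega) _ (mul_mem σA hwA) (sqw σ σσ σw) h1 rfl) g ?_
      rw [E.mul _ σA _ hwA]
      have := mul_mem hs2 (mm hwA)
      convert this using 1
      rw [mul_assoc _ g, hg']; group
  rw [eq_top_iff]
  intro g _
  rcases dih ⊤ (a := E.f t0) (b := g * E.f w0 * g⁻¹) (sq _ ht ht2) (by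
      calc _ = g * (E.f w0 * E.f w0) * g⁻¹ := by group
        _ = 1 := by rw [sq _ hw hw2]; group) trivial trivial with
    ⟨x, -, e⟩ | ⟨s, -, ss, s1, sa, sb, -⟩
  · have := nf _ ht _ hw ht2 hw2 (cj (g⁻¹ * x) _ _ (by
      calc _ = g⁻¹ * (x * E.f t0 * x⁻¹) * g := by group
        _ = _ := by rw [e]; group))
    omega
  · obtain ⟨σ, σA, rfl⟩ := E.exists_of_mem (hM' _ (hC (mem_centralizer_singleton_iff.2 sa)) ss)
    have σσ := sq' σ σA ss
    exact R σ σA σσ (C _ σ σA σσ (fun e => s1 (by rw [e, E.one])) rfl) g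
      (C _ w0 hw hw2 hw1 rfl (cc sb))

end H69.A5
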