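import Mathlib
import Cfsg.Agent.Base
import Cfsg.Agent.Lib.M12C.Tab

/-! a group of order 64 (helper69; generated) -/

set_option autoImplicit false
set_option maxRecDepth 100000

namespace H69.WOE
open H54 (Tr force band)
open H18.TC
noncomputable def T_0 : Tr := (.node (nat_lit 3) (.node (nat_lit 1) (.node (nat_lit 0) (.leaf (nat_lit 0x88000068ba36dd037f821fd60beaf5f4632a2b945cce0e6a027f017f400ee0000522f28d7963beb15f217f90ffe89cd41665d302d385d9c4d7e3002a80000b8c85ce443b2a27968bcd4266207f907fcccd861e923ba129bc000000000dbe063f058ce2fe75eb42ffa0c2d263e90e3b867fc4ee017f500198000032f61afb063503ba98ad6c6eb34f619db011fe1df705b8841d80110000010b6887b408fc01fe54372a3b897de496f1438029c40cf002ff00088000076e43ef2013e80ff556e6aa73233a115d02cea1376007f815e0000000000ebb87bdc0ff00778223c90de484f4417a0d3d825f006fa017e)) (.leaf (nat_lit 0x5d8000047e224f1153a897d5b6aaddd527a91394852da27fd15b389bec0066000012b8091c027ec1276726a38550a4a652d304fe88bb41ad40afc0000000007efc3afe1f368e7b5aac6d6e3392b9db5c80ec3bf51ebb8e37400ee00006a31b4d8d57dcad6e54ff2abfa6db13358702a36f555cbcd1d6002a80000e8ae7657243792bbe6fb13458227f117f8dab89d5a473291be8015400000bbb053d84ce029f07f6cbe96544b49e5a1e39057f830f62ee70008800002aea16f508f8851c5e4b6f5db382e1bb7025fc3ff207fe043a8004400000fbf873fc66ba35dd52af29778bec85de40f3e06fec40da3cf2)))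 (.node (nat_lit 2) (.leaf (nat_lit 0x330000186d6c26b5f70af78580f6bcfbb966dbd3582beccd672ea3c56c0044000032b61a3b1029882ccb9e6dc134c8f660fb313d17f9134b463520044000005ace30e707be02ff172c0bbe049a725f381bf034dd08bb033c40176000060f430ba18cc0c3e063be313f2f09f7dcf64ab31f7db9aafb59005500000d2d264e948272533af29f7ecf337e1a9f0cfc865fa362e1ad4c00000000113e883f474e43df273b13af88aea059d011b88a3c06fba1ff7000000001d2c4ea625679ab1cd52faa7fd8628c3745deb6fc5968ab29b78011000002b281634096e847f48828c3b4491fa4c7d2a299354893f48865)) (.leaf (nat_lit 0x5d800016dc2b7e16235b17ad78d4b8eaa6a4d252576bcb9f97fecb6954004400005c302dd817cd0bf685b33acf9ebd915b485abcacb79e9b6e254003300001d3dce8ee7571b9f8dd8dae6ed8b65c4d2df0b2f2db772fbb5e4017600006979b4fcdd0c4eb626bb9353ca4795214a6caab8d51b0f2d5df000000000baf45bfa3da29f716ab8d52462f3b97bdcc0d2686c3c2b96b40004400004662a251514f486fa9da3cf71d16f08bf847a7217310fde8df4004400002a78d4f46a223cfb1e83f5467aa07cd15e6b0914749a1654ff2c0000000018b50b3a860f62bfb5a30ad7850a9883cc192e8b7e05eea2af0))))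 (.node (nat_lit 5) (.node (nat_lit 4) (.leaf (nat_lit 0x19800026195364a98e8cd54667e938749979cddce5d812fc1b46154b18015400007eadbdb6df1aafe557cfabfdd6048701437df73df89f5d7006000088000137b8a05c4d6927d4a078703434efaa87d539e8a1574c66267a4004400007bacbf365e8a8efd47b3b3c7da0e8908c479b13bbb9e1d0f5610000000013fb49c5a38699b94e108909c437bb1bfd8f2ae6cf44b671afb0004400001bbc0cfe06cee32f7662b33f58f88a7ec51ab50c79c72e4386d005d8000145f2a3f9652b337594ceea4f7aa635451966c2bae053b72b7cc00ee000065ab33b5961f2b279577c2bfe2748f3cc76435b03a1acc6ede2)) (.leaf (nat_lit 0x1100000b2de55ef39ab9d55e2f97144b2d3695bb4b0a454d32db21f3140044000088a5c572e69b1325887b7c3fbe1cdd0bee86a1c2b12a08d69c2001980000a2a650534f6d26d6a5b812a4026f813bc099de57d03174a09300176000027e914348dbb8715c8ca0c7304a6e251f12aa814fbcd5d8924e005500001c8aaded5782dbcf6dc1e2e5718ee0c6905c5c6dff370f0b99a0004400006faa38f51fbb2f9596f3836bc2598129406e39b638db3c0dd6b0011000019ebecadf672f32779a0bacbddb3e1589099ad0c8eb6939b43b8008800003afa1cfd0e9a072d0926548928eee471f2506d1e370f48a77e4)))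 (.node (nat_lit 6) (.leaf (nat_lit 0x1980002b1935d49b866db536b799604cad70d7d86ad8d57e6af20d671000660000ae6456522ee9f7ccfa4e752f3a91c14ce0a3735391a968147c30019800026bb131588fe5c8d2e43af25579071c918e3d8326409ca3d0d98015400008b28c43464595204a89e84614225c517628a624470e80cd3bc7001100001229c95ce41b4a03a6bf915c484233a139d0cca7fc540e92656800660000bb27dd53ed9917148b7f4dd1a6ddd17368b5615af1ee4896dc10011000012c9890cc4ab623fb298934a494c3524ba9288a8ee548e9a5d7001760000ba66dd736fa9376c9bfb65e3b2fcd777ebbe23deb0b008779c0)) (.leaf (nat_lit 0x19800024d832c4193e1cad0e53a52e52946acb5564b952f58bd27d2b2400cc000095e049d0237891ac48ea9c634e33a91e54982c47d2adc9b5dc8003300002c98f63c7b2e358b1ace8b60c5b0eb5a15af69f6b4db528da56000aa000083224151255812840816d4116a01b301d98925c334690937fcf005d80002098705c38da0c710614b907dc84adc1b6e16a3154bad245c734000000004472a3594fcc87ae4b0a159b08feba7bdd402624f38faa079d70019800029dcd5466b1a15990aa3c95664a86f5557a9b935748a9ac53f4400000000b2215950a7ecd43e69f32ceb967abf39dfb626def3e789738ca)))))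
noncomputable def J_0 : Tr := (.node (nat_lit 3) (.node (nat_lit 1) (.node (nat_lit 0) (.leaf (nat_lit 0x600200000000000000008000001001002000000000000180020020020018000000001001800c0000000010000002003000400400400000080000000000000008000003000000800000100000080010010000000004000002000000200200040040020000000000000002000400400000400180000000000000004000000001000000800000000000000000004004000000000000c00a00000000000000000000000000000)) (.leaf (nat_lit 0x40040020000010000006000000000000800000180000000000028000002000000000e00200200000080000000010000006000000800000400000100020020000000000006000800800800400000000040000060000000000000002000400100100100000000000028000001001000000800200000000000000010000004000000000800800000000180000080020014004008000000000c00000100000040000040004004000001))) (.node (nat_lit 2) (.leaf (nat_lit 0x40028002002003000000000200200000000000010000004006000000000400100100000000000000010002002000000800000200300080000020008008004000002000000400000300000180020000000002002000000800000200200000040020000000000000002000000c0000020000004000003000c004000000000000c00000000200000020000000002002000000000c001001000000c0060000000000008000))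 (.leaf (nat_lit 0x4004002000001000000200000000000080020000000000000000000000000300100000010010008000000004002001000a00080080080000000008000000000800800400000000000040060000000000000003000000000400000180040000000010000000000800800000c0000000004000004000000800100100080140000020000002002003000000c00000000000140020000000008000003000000c0000010000008001001)))) (.node (nat_lit 5) (.node (nat_lit 4) (.leaf (nat_lit 0x40000010000008000001000400400600300100000010010030000002000000000000200100100000000030000008000004000001400200200040040080000000004000001000000c0000030004004002000000000c00000700000000020000010000004001800800000000300000040000030000010001001000000000100100080000020000008008000000001800000c000000000c00600080080080000040000018000001)) (.leaf (nat_lit 0x6000000000400000000080020020000008000000001000800000000200000040010010000004000000000001400000100000040050010008004000000800800400400000000080000030000014004000000000200200000080040000040000004002002000000000000100300000000030010000001001000800000000000180000020000018010000000800800000c000001001401000600180000010010010014000005)))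 (.node (nat_lit 6) (.leaf (nat_lit 0x400000100000080000010004004006000001000000a0000000008004002000801600200000000080000050000004000002000000400100100000000000000004004002000000800000400000080040000010000000006000000800400000000100020020010000000000000000800000400000080020020030000008000000001800000200000000000020008008004000000800800400000200000040000030000010000003)) (.leaf (nat_lit 0x4000001000000800000100040040000000010000004000002001400100100200000000000000008000004002001000a000800801000000000000000000000000000002000002000200200200000040000030004004002000000000000200000180000000000010000002000000000c0000020000010000001000400400000100000000000020000004001001000000000400000000000000040000010000004000000c001001)))))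
noncomputable def F_0 : Tr := (.node (nat_lit 5) (.node (nat_lit 2) (.node (nat_lit 0) (.leaf (nat_lit 0xdb79f0ca8bb5efc67897e8ffebdcf15d445be5f59e4d231daab1a0bcbd0f92d3a6b0885a1038a915854d09c40a2401c1)) (.node (nat_lit 1) (.leaf (nat_lit 0xc32bb6def9f4fbfe19b7bb3c6f959379f33af54cd7c4d45c9a4806a10d4aae526a8e2a456152216840d205d2cf387002)) (.leaf (nat_lit 0x9f5caed31df0679ffceb86bdb3bbd031c523f9da112d87d71a192b4f3d87a5b8a014f9ad0922aa94134455e58020e243)))) (.node (nat_lit 3) (.leaf (nat_lit 0xd67c34bb3db2e59fbb6bdeb8b7c42f70c5e5fd12dda157948469aa5b1de28051e96ce92c48226b8cd04361f4c800f284)) (.node (nat_lit 4) (.leaf (nat_lit 0xaaba6692286079f71d6175544913cefbff4d33c2bb27ae78db7d352071b3c84c700efb82b6ca270658db6990164d02c5)) (.leaf (nat_lit 0xaaba6692286079f71d6175544913cefbff4d33c2bb27ae78db7d352071b3c84c700efb82b6ca270658db6990164d02c5))))) (.node (nat_lit 8) (.node (nat_lit 6) (.leaf (nat_lit 0xb6cea58fd6dacf1a2fdd6d93d10ffe38f8b52caf09ee920755848de7815e1327c3c1d0aeaab7019e6921800657511306))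 (.node (nat_lit 7) (.leaf (nat_lit 0xb6cea58fd6dacf1a2fdd6d93d10ffe38f8b52caf09ee920755848de7815e1327c3c1d0aeaab7019e6921800657511306)) (.leaf (nat_lit 0xf3be7ff9bf59cb0d355b74f6a2796392686fbaab6bb08a4651771de85e047b30dfc4d30b28949140f3a2020698541087)))) (.node (nat_lit 9) (.leaf (nat_lit 0xf3be7ff9bf59cb0d355b74f6a2796392686fbaab6bb08a4651771de85e047b30dfc4d30b28949140f3a2020698541087)) (.node (nat_lit 10) (.leaf (nat_lit 0xfbfe3bf1a67ddb79eec70cf2434b2daab80bd648e69471a979f44c17ae5551361758276f38f05ca092808a16c3112348)) (.leaf (nat_lit 0xfbfe3bf1a67ddb79eec70cf2434b2daab80bd648e69471a979f44c17ae5551361758276f38f05ca092808a16c3112348))))))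
noncomputable def T : Tr := T_0
noncomputable def J : Tr := J_0
noncomputable def F : Tr := F_0
noncomputable def row (u : ℕ) : ℕ := Nat.land (Nat.shiftRight (force (Nat.shiftRight u (nat_lit 3)) T.get) (Nat.mul (Nat.land u (nat_lit 7)) (nat_lit 238))) (nat_lit 0x3fffffffffffffffffffffffffffffffffffffffffffffffffffffffffff)
noncomputable def jrow (u : ℕ) : ℕ := Nat.land (Nat.shiftRight (force (Nat.shiftRight u (nat_lit 3)) J.get) (Nat.mul (Nat.land u (nat_lit 7)) (nat_lit 169))) (nat_lit 0x1ffffffffffffffffffffffffffffffffffffffffff)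
noncomputable def fget (k fx : ℕ) : ℕ := F.get (Nat.add k fx)
noncomputable def wt0 : LT := (.node (nat_lit 2) (.node (nat_lit 0) (.leaf 31 2 [nat_lit 136, nat_lit 17])
(.node (nat_lit 1) (.leaf 29 1 [nat_lit 51, nat_lit 0, nat_lit 34])
(.leaf 23 1 [nat_lit 187, nat_lit 0, nat_lit 170])))
(.node (nat_lit 5) (.node (nat_lit 3) (.leaf 31 1 [nat_lit 17, nat_lit 136])
(.node (nat_lit 4) (.leaf 35 1 [nat_lit 85, nat_lit 0, nat_lit 136, nat_lit 68])
(.leaf 37 1 [nat_lit 119, nat_lit 0, nat_lit 170, nat_lit 102])))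
(.leaf 0 0 [])))
noncomputable def wt1 : LT := (.node (nat_lit 0) (.leaf 29 3 [nat_lit 34, nat_lit 17, nat_lit 51])
(.node (nat_lit 2) (.node (nat_lit 1) (.leaf 23 3 [nat_lit 170, nat_lit 17, nat_lit 187])
(.leaf 37 3 [nat_lit 170, nat_lit 102, nat_lit 17, nat_lit 119]))
(.node (nat_lit 4) (.node (nat_lit 3) (.leaf 35 3 [nat_lit 136, nat_lit 68, nat_lit 17, nat_lit 85])
(.leaf 21 3 [nat_lit 136, nat_lit 17, nat_lit 153]))
(.leaf 0 0 []))))
noncomputable def wt2 : LT := (.node (nat_lit 1) (.node (nat_lit 0) (.leaf 33 2 [nat_lit 170, nat_lit 51])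
(.leaf 29 2 [nat_lit 0, nat_lit 34, nat_lit 17]))
(.node (nat_lit 5) (.node (nat_lit 2) (.leaf 33 1 [nat_lit 51, nat_lit 170])
(.node (nat_lit 3) (.leaf 27 1 [nat_lit 187, nat_lit 34, nat_lit 170])
(.node (nat_lit 4) (.leaf 39 1 [nat_lit 85, nat_lit 34, nat_lit 170, nat_lit 68])
(.leaf 41 1 [nat_lit 119, nat_lit 34, nat_lit 170, nat_lit 136, nat_lit 102]))))
(.leaf 0 0 [])))
noncomputable def wt3 : LT := (.node (nat_lit 2) (.node (nat_lit 0) (.leaf 27 3 [nat_lit 170, nat_lit 51, nat_lit 187])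
(.node (nat_lit 1) (.leaf 29 0 [nat_lit 17, nat_lit 51, nat_lit 0])
(.leaf 25 3 [nat_lit 136, nat_lit 51, nat_lit 153])))
(.leaf 0 0 []))
noncomputable def wt4 : LT := (.node (nat_lit 1) (.node (nat_lit 0) (.leaf 39 2 [nat_lit 34, nat_lit 170, nat_lit 68, nat_lit 51])
(.leaf 7 0 [nat_lit 85]))
(.node (nat_lit 2) (.leaf 15 1 [nat_lit 187, nat_lit 68, nat_lit 170])
(.node (nat_lit 3) (.leaf 35 2 [nat_lit 0, nat_lit 136, nat_lit 68, nat_lit 17])
(.node (nat_lit 4) (.leaf 11 1 [nat_lit 119, nat_lit 68, nat_lit 102])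
(.leaf 0 0 [])))))
noncomputable def wt5 : LT := (.node (nat_lit 1) (.node (nat_lit 0) (.leaf 39 0 [nat_lit 51, nat_lit 85, nat_lit 34, nat_lit 170])
(.leaf 15 3 [nat_lit 170, nat_lit 85, nat_lit 187]))
(.node (nat_lit 2) (.leaf 13 3 [nat_lit 136, nat_lit 85, nat_lit 153])
(.node (nat_lit 3) (.leaf 11 3 [nat_lit 102, nat_lit 85, nat_lit 119])
(.node (nat_lit 4) (.leaf 35 0 [nat_lit 17, nat_lit 85, nat_lit 0, nat_lit 136])
(.leaf 0 0 [])))))
noncomputable def wt6 : LT := (.node (nat_lit 1) (.node (nat_lit 0) (.leaf 19 1 [nat_lit 187, nat_lit 102, nat_lit 170])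
(.leaf 9 0 [nat_lit 119]))
(.node (nat_lit 2) (.leaf 41 2 [nat_lit 34, nat_lit 170, nat_lit 136, nat_lit 102, nat_lit 51])
(.node (nat_lit 3) (.leaf 37 2 [nat_lit 0, nat_lit 170, nat_lit 102, nat_lit 17])
(.leaf 0 0 []))))
noncomputable def wt7 : LT := (.node (nat_lit 0) (.leaf 19 3 [nat_lit 170, nat_lit 119, nat_lit 187])
(.node (nat_lit 1) (.leaf 41 0 [nat_lit 51, nat_lit 119, nat_lit 34, nat_lit 170, nat_lit 136])
(.node (nat_lit 2) (.leaf 17 3 [nat_lit 136, nat_lit 119, nat_lit 153])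
(.node (nat_lit 3) (.leaf 11 0 [nat_lit 85, nat_lit 119, nat_lit 68])
(.leaf 0 0 [])))))
noncomputable def wt8 : LT := (.node (nat_lit 1) (.node (nat_lit 0) (.leaf 25 2 [nat_lit 34, nat_lit 136, nat_lit 51])
(.leaf 5 1 [nat_lit 187, nat_lit 136, nat_lit 170]))
(.node (nat_lit 3) (.node (nat_lit 2) (.leaf 21 2 [nat_lit 0, nat_lit 136, nat_lit 17])
(.leaf 1 0 [nat_lit 153]))
(.node (nat_lit 5) (.node (nat_lit 4) (.leaf 17 2 [nat_lit 102, nat_lit 136, nat_lit 119])
(.leaf 13 2 [nat_lit 68, nat_lit 136, nat_lit 85]))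
(.leaf 0 0 []))))
noncomputable def wt9 : LT := (.node (nat_lit 1) (.node (nat_lit 0) (.leaf 25 0 [nat_lit 51, nat_lit 153, nat_lit 34])
(.leaf 31 0 [nat_lit 17, nat_lit 17]))
(.node (nat_lit 3) (.node (nat_lit 2) (.leaf 17 0 [nat_lit 119, nat_lit 153, nat_lit 102])
(.leaf 41 5 [nat_lit 102, nat_lit 51, nat_lit 119, nat_lit 34, nat_lit 170]))
(.node (nat_lit 4) (.leaf 21 0 [nat_lit 17, nat_lit 153, nat_lit 0])
(.node (nat_lit 5) (.leaf 5 3 [nat_lit 170, nat_lit 153, nat_lit 187])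
(.node (nat_lit 6) (.leaf 13 0 [nat_lit 85, nat_lit 153, nat_lit 68])
(.node (nat_lit 7) (.leaf 35 4 [nat_lit 68, nat_lit 17, nat_lit 85, nat_lit 0])
(.leaf 0 0 [])))))))
noncomputable def wt10 : LT := (.node (nat_lit 1) (.node (nat_lit 0) (.leaf 3 0 [nat_lit 187])
(.leaf 23 2 [nat_lit 0, nat_lit 170, nat_lit 17]))
(.node (nat_lit 2) (.leaf 27 2 [nat_lit 34, nat_lit 170, nat_lit 51])
(.node (nat_lit 4) (.node (nat_lit 3) (.leaf 19 2 [nat_lit 102, nat_lit 170, nat_lit 119])
(.leaf 15 2 [nat_lit 68, nat_lit 170, nat_lit 85]))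
(.leaf 0 0 []))))
noncomputable def wt11 : LT := (.node (nat_lit 3) (.node (nat_lit 0) (.leaf 33 0 [nat_lit 51, nat_lit 51])
(.node (nat_lit 1) (.leaf 39 4 [nat_lit 68, nat_lit 51, nat_lit 85, nat_lit 34])
(.node (nat_lit 2) (.leaf 23 0 [nat_lit 17, nat_lit 187, nat_lit 0])
(.leaf 37 4 [nat_lit 102, nat_lit 17, nat_lit 119, nat_lit 0]))))
(.node (nat_lit 5) (.node (nat_lit 4) (.leaf 27 0 [nat_lit 51, nat_lit 187, nat_lit 34])
(.leaf 15 0 [nat_lit 85, nat_lit 187, nat_lit 68]))
(.leaf 0 0 [])))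
noncomputable def wt12 : LT := (.leaf 0 0 [])
noncomputable def sl : List (ℕ × ℕ × List ℕ × List ℕ) := []
/-- the inverse column -/
noncomputable def icol (x : ℕ) : ℕ := List.getD [nat_lit 1, nat_lit 0, nat_lit 3, nat_lit 2, nat_lit 5, nat_lit 4, nat_lit 7, nat_lit 6, nat_lit 9, nat_lit 8, nat_lit 11, nat_lit 10] x x
noncomputable def inv (x : ℕ) : ℕ := Nat.mul (icol (Nat.div x (nat_lit 17))) (nat_lit 17)
def cols : List ℕ := [nat_lit 204, nat_lit 0, nat_lit 17, nat_lit 34, nat_lit 51, nat_lit 68, nat_lit 85, nat_lit 102, nat_lit 119, nat_lit 136, nat_lit 153, nat_lit 170, nat_lit 187]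
noncomputable def cl : CL := (.cons (nat_lit 0) (nat_lit 17) (nat_lit 0) (nat_lit 0) wt0
(.cons (nat_lit 17) (nat_lit 0) (nat_lit 13) (nat_lit 1) wt1
(.cons (nat_lit 34) (nat_lit 51) (nat_lit 26) (nat_lit 2) wt2
(.cons (nat_lit 51) (nat_lit 34) (nat_lit 39) (nat_lit 3) wt3
(.cons (nat_lit 68) (nat_lit 85) (nat_lit 52) (nat_lit 4) wt4
(.cons (nat_lit 85) (nat_lit 68) (nat_lit 65) (nat_lit 5) wt5
(.cons (nat_lit 102) (nat_lit 119) (nat_lit 78) (nat_lit 6) wt6
(.cons (nat_lit 119) (nat_lit 102) (nat_lit 91) (nat_lit 7) wt7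
(.cons (nat_lit 136) (nat_lit 153) (nat_lit 104) (nat_lit 8) wt8
(.cons (nat_lit 153) (nat_lit 136) (nat_lit 117) (nat_lit 9) wt9
(.cons (nat_lit 170) (nat_lit 187) (nat_lit 130) (nat_lit 10) wt10
(.cons (nat_lit 187) (nat_lit 170) (nat_lit 143) (nat_lit 11) wt11
.nil))))))))))))
def rels : List (List ℕ) := [[8, 8],
[10, 10],
[11, 9, 10, 8],
[4, 4],
[6, 6],
[7, 5, 6, 4],
[9, 5, 8, 4],
[11, 5, 10, 4],
[9, 7, 8, 6],
[11, 7, 10, 6],
[9, 1, 8, 0],
[11, 1, 10, 0],
[9, 3, 8, 2],
[11, 3, 10, 2],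
[3, 1, 2, 0],
[9, 0, 0],
[11, 2, 2],
[5, 9, 1, 4, 0],
[7, 11, 1, 6, 0],
[5, 11, 3, 4, 2],
[7, 9, 11, 3, 6, 2]]
def subs : List (List ℕ) := []
noncomputable def chk : ℕ → Bool := rowChk row jrow fget sl cols (nat_lit 64) (nat_lit 64) (nat_lit 131071) (nat_lit 127) (nat_lit 131072) (nat_lit 204) (nat_lit 221) (nat_lit 8191) (nat_lit 6) (nat_lit 63) (nat_lit 6) (nat_lit 63) cl (nat_lit 156) wt12
theorem p0 : allB chk 6 0 = true := by decide +kernel
theorem all_chk : AllLt chk 64 := by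
  have h := AllLt.zero chk
  have h := h.step 64 p0 (by decide +kernel)
  exact h
/-- column `x` of the final table -/
noncomputable def tab (x u : ℕ) : ℕ := ft fget (nat_lit 6) (nat_lit 63) (nat_lit 6) (nat_lit 63) (Nat.mul x (nat_lit 1)) u
theorem enum {G Ω : Type*} [Group G] [MulAction G Ω] (g : ℕ → G) (ω : Ω)
    (hinv : ∀ x, g (icol x) = (g x)⁻¹) (h1 : g 12 = 1)
    (hrels : ∀ R ∈ rels, ev g R = 1) (hsubs : ∀ S ∈ subs, ev g S • ω = ω) :
    ∃ pt : ℕ → Ω, pt 0 = ω ∧ (∀ K : Subgroup G, (∀ x, g x ∈ K) → ∀ v, ∃ k ∈ K, pt v = k • ω) ∧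
      ∀ x, x < 12 → ∀ u, u < 64 → tab x u < 64 ∧ g x • pt u = pt (tab x u) :=
  sound_scaled g ω row jrow fget sl inv icol cols (nat_lit 64) (nat_lit 64) (nat_lit 131071) (nat_lit 127) (nat_lit 131072) (nat_lit 204) (nat_lit 221) (nat_lit 8191) (nat_lit 6) (nat_lit 63) (nat_lit 6) (nat_lit 63) 7 cl (nat_lit 156) wt12 rels subs 17 (nat_lit 1) 12
    (fun _ => Nat.mul_div_cancel _ (by decide)) hinv h1 hrels hsubs
    (by decide +kernel) (by decide +kernel) all_chk
end H69.WOE

namespace H69.WO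
open H70.TM H18.TC Subgroup

noncomputable def rt : RT := ⟨nat_lit 64, nat_lit 6, nat_lit 63,
  (.node (nat_lit 31) (.node (nat_lit 15) (.node (nat_lit 7) (.node (nat_lit 3) (.node (nat_lit 1) (.node (nat_lit 0) (.leaf (nat_lit 0xffef7cefae78df6d74cf2c70beeb6caeaa689e69648e28607de75c6da6585d65544d24503ce34c2ca2481c61440c2040))
(.leaf (nat_lit 0xc9fe663efe844aa82ddfccdef75fb0edb8a96bf9c660d8d4d11ac258c909e365ee231b1375ca2564084338b295407141)))
(.node (nat_lit 2) (.leaf (nat_lit 0x7efded2b149bfc99f99b4f35ce5eae1611384fe43ba1535af600648c8ae9a98d8cc3252c0195c375c89e2cf3964461c2))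
(.leaf (nat_lit 0x8a1da8b1b5b157d6585e9e2baa48fbc2fcbc38d72eb7ff8b25d7a5e87d74cf9dc61443ca4679828107c16944d200c203))))
(.node (nat_lit 5) (.node (nat_lit 4) (.leaf (nat_lit 0xb3595e89ac2481cf944e7bb947143f58f39dc8cf782bb67723ca361fa84616b2f4cc3bedaa90a656305f6d85c048d244))
(.leaf (nat_lit 0xf34ebf77dbd5c5b53e4a6dd1e607de3d636233268b26862eb6cec7da51a112ae350f3c08ac2a679018d07190174ce285)))
(.node (nat_lit 6) (.leaf (nat_lit 0xf73ffa73cca37e24d2fb9b67990c6538d59bc2fb0ae365c8dda1fba1e144869243d7432e0aba9106456074065850f2c6))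
(.leaf (nat_lit 0xd3d4be033c56ca16bafed9a0de7bf52a354421f4cfa57a0ce54146603ee26c9aa57bcbb0064e10ac235165d736b0b387)))))
(.node (nat_lit 11) (.node (nat_lit 9) (.node (nat_lit 8) (.leaf (nat_lit 0xa4958d46a6d212f2e35685ddd9986bb3aff21e2394d26b4660fc0ce42b9fc7dce4078ec57a5f1cd43f809e043729a4c8))
(.leaf (nat_lit 0x9c8c0ca916800cfdd081e4fc97ed79887eceeacc981822b452f58dae6e0191c1717eeff3a3677d844652a558cbb5b5c9)))
(.node (nat_lit 10) (.leaf (nat_lit 0x9adbf2af9f57cd6b9fc7f4ace94d11776a0d97c319869275fb03ceaa72e355b120437783ec789a1856130a407821c00a))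
(.leaf (nat_lit 0xe77caf0a6f18d0d2317faf9afd3ce7728d967bdc0012ae0348c38fa512958e285082d9751fb6ec1465d4ac1909b9d64b))))
(.node (nat_lit 13) (.node (nat_lit 12) (.leaf (nat_lit 0x26a56343813a89f396358a195dc6e44fe4b11612acf37987d8b22eb41c32bf4f42ae91bb0f5cc07a5fdd8119f93d468c))
(.leaf (nat_lit 0x2118108ee0c7b01cb03147be4fd6b15d9024cf5b6274b0ba97727829f58e3c6726e67d3f121152a36efc56aa6bbd86cd)))
(.node (nat_lit 14) (.leaf (nat_lit 0xb79c5f077cf6f2332fcbefd449af600185d50f421d8b8a65eae28b2503cd5a16e7466d5e146113ec7a2c92b0aac1970e))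
(.leaf (nat_lit 0xde67f192dd28f55c32bd2e93facf10657623d73b9c6c9a9efc82cae203963448919f90e51858541fbd9a042ae930074f))))))
(.node (nat_lit 23) (.node (nat_lit 19) (.node (nat_lit 17) (.node (nat_lit 16) (.leaf (nat_lit 0x363aa9c16db35f9909e2213b6c660f7bdf267280b5fb27d986b467bce82ddfa48b295740b1afc7513d0532e2310650d0))
(.leaf (nat_lit 0x54d278ba363cdb7ae9a846c587ba0ad73d2d657925e9fbdd881810c4b9f9992fcf39601c513f866acf4720cc32083791)))
(.node (nat_lit 18) (.leaf (nat_lit 0xed971dfc7aee2e584614e9163f82a2e519dea42db142cd55068f3d69bf944f08185c0aa3bf230dded209eb4cc31267d2))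
(.leaf (nat_lit 0xa186e27b6ab7e3a1a110d54f58b25d4799bf0a91e07fcd248fbb1af5c53e4afc59017ac1c0cc8eb88b4a9750f3167413))))
(.node (nat_lit 21) (.node (nat_lit 20) (.leaf (nat_lit 0xd9789b968a6d27f1448568ce34ae1c9e6e7aaeaed0c7dcc15476acf1d4d2fb27c06580a4330bcf22edcb783d74191814))
(.leaf (nat_lit 0xc209d134c7865027ee21ad7ab334f2d9d72bf25e4400f9120e6a6a3af8cb2bb66ddd0f7e6e21ff5d8174589e01c68855)))
(.node (nat_lit 22) (.leaf (nat_lit 0xba7420548d7b6a4bccc1395253cb1f600641d03ddb70aaff7ade092f134f385779991cfa8441beda81fd8e9a82c97896))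
(.leaf (nat_lit 0x7946aca2544bb87d350cc82fc3723caab0bb9a7e9505d1b143f89b73d61900f93e493e5f58d3b2e092adda1105ce98d7)))))
(.node (nat_lit 27) (.node (nat_lit 25) (.node (nat_lit 24) (.leaf (nat_lit 0x953b1ad9e9ca23bcc3d7043232dbbda42ac7e51fe391c15f83a6e277c5c064e052f949b13563ef2782f7a04846d2a558))
(.leaf (nat_lit 0xe92f3d1ff989b680f3d2f7ccc88dda0a9ab647978155b110c6571d8ac01760d8d353e9e038f5b028be2eec51a1d6b919)))
(.node (nat_lit 26) (.leaf (nat_lit 0x6361210d7e39a7e1db8a334b54ea9942ddd2049151cb3f025864d4d00b3fe9fbdc76892b22ec4ac0c98fd5e97dee09da))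
(.leaf (nat_lit 0x5250f5113bab9d9e9ab1033783247e8ca2c07c8cea385766c345d81928bb1c13fdf1ec7927892d58d0af868d9cfd5a5b))))
(.node (nat_lit 29) (.node (nat_lit 28) (.leaf (nat_lit 0xfbacf4152dea99897df1fcaec4ce54049e1742d0eb3448a7bf5019853768da359ab3f81128b5483cea701bb1db7a409c))
(.leaf (nat_lit 0x4bfd331beb69e577bcf71bc87f0993938258837d425a16d1c83640114736a1536c6ba4272ca8ee38fa8c147ee2941add)))
(.node (nat_lit 30) (.leaf (nat_lit 0x1226175218f25b3768db8a8126b345bb17f42d564ce7ee8fa40d4348697df379bb1db28e810b649d1bc24dab3f708c1e))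
(.leaf (nat_lit 0x381ac2bcf1c301154a2dd168721656fdab276fba7450c4181aae66c0dc48ba54f8264897f3d7b6f92d44cb7b608facdf)))))))
(.node (nat_lit 47) (.node (nat_lit 39) (.node (nat_lit 35) (.node (nat_lit 33) (.node (nat_lit 32) (.leaf (nat_lit 0x595a6a30da3462607825b8478855ce97cf79776ac34afc401029d1c8f437b7ff8a2e37196acebb4d4cc6c08b9f91ed60))
(.leaf (nat_lit 0x6837a56ec30141d4935112269df83a34e3dcbf0f092c702dbbdda8eff1051822b3d35cb7a6aaf98d5931897619f96e21)))
(.node (nat_lit 34) (.leaf (nat_lit 0x4ded43854202440fec6a0c2d42f9d254b299c6ed293c673933361717e6c7ee43bcf657e6e09077356af2136a1dea3aa2))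
(.leaf (nat_lit 0x3104675b09454ebc48bac0ff6b452fa1c742f5e9a164e07ed79aa93f254a2c7037b60f1289befa6171b33782647f6123))))
(.node (nat_lit 37) (.node (nat_lit 36) (.leaf (nat_lit 0xbf19b93b2fe1fa9437b7dd25f0348c1e26eab3a4455d6553ce70ab370078268608b9f69471dd9e0191353ca2e383b1a4))
(.leaf (nat_lit 0x85b5d84c456f374736a09a64e0258621fc732a3030992fcea990f5f857bcf6de47ee22cf420dc1467cab52c6ba76e325)))
(.node (nat_lit 38) (.leaf (nat_lit 0x4f2cab6401aec8a6b0867611761f8cf50ee5d98ff7a031b7157f1409e6745494d58e6224be4c4f3db28defcb0ab4ea6))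
(.leaf (nat_lit 0x8d6e092155fda2d0aaa61886107d8b0f4cf701805eff1c9c6e44207ca466e7ee8e3cd65d4d4485b1af3bbb032faf5967)))))
(.node (nat_lit 43) (.node (nat_lit 41) (.node (nat_lit 40) (.leaf (nat_lit 0xec51363540ec05f1e96e45f239333e24046de0f8dad91ef9d2844034d9c74b0bfe9ab725632b1a6a3e65db8bbf495a8))
(.leaf (nat_lit 0x430b882604dc78a9919f5b340fa97710614b4947e8ee43bd6b18d506da82ad91f2bccfbc5d803389b77fe1634fe61da9)))
(.node (nat_lit 42) (.leaf (nat_lit 0x80c22ee1051d94be674436b3d7f7ad84518af93c761c13fcb1f563937a6b080eefcb04bd6176746e273a24d58e984a2a))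
(.leaf (nat_lit 0xc72b772dffa2eb8466e73f43d1efc8184849512807da35acf1090156e0aaa57a3032f4da64063571d6e528e3cd9c5eeb))))
(.node (nat_lit 45) (.node (nat_lit 44) (.leaf (nat_lit 0x5e8844d58266a92ee26d558a8cfa40837b7e9381a7bf4f6b345513cd96baff1c9d736042b887cb330e4e0e57bc1d046c))
(.leaf (nat_lit 0x8a3cee6b713170e0193b0221d81aaf2578cd9d37ed67221656bf2469dd081a0d58cba04ffab1bd335179b17ee27d4ad)))
(.node (nat_lit 46) (.leaf (nat_lit 0xab83569e98be8722958f661ca001026bfeafedb3d3cf9dc55ce3309ab2317fcd019091c695ef5d0f549945082d2ec52e))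
(.leaf (nat_lit 0x2c2064c4a19e72058e3c01d7662763f93510845e3d688468ec9dedb95cb0303b2aa6b136d33d58ebf95b7e6e67352f2f))))))
(.node (nat_lit 55) (.node (nat_lit 51) (.node (nat_lit 49) (.node (nat_lit 48) (.leaf (nat_lit 0xe298d580987f6f13cd597d8061d881512f9f1842daf6de7ba0ab88de432fcb3f2b0aa147d43d1995ee9c427466393b30))
(.leaf (nat_lit 0x3e40abc8eef56678cb29c1b674400deac691887ab34f08171699b93167ee21e509e016d8f7c9684be0e1beddd057fd31)))
(.node (nat_lit 50) (.leaf (nat_lit 0x2ab9017cb16575034f399ed801b7154944e010627cb2e9f61f8b77223bccc356a9a82868cf40d7ffa7a2c799915bef72))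
(.leaf (nat_lit 0x7461fbf1c3e091a6190022eaad5068bf032c34e6f721e5382a2ffa976d350d1ba1105589e669e9c5f423f7e4935f2b73))))
(.node (nat_lit 53) (.node (nat_lit 52) (.leaf (nat_lit 0x705ec7f5d39006c5c066b2a90a3936c8cc1a58f8adba54c92dbebf7a8cc3d672048463789b946a7f1815f12f9462fdf4))
(.leaf (nat_lit 0x6c4a366a235f8fc01762a242a41547332bfd3d6748dfa48ae1c95effb0f3d26b451a138b9d1e6b420c64b1353e670bb5)))
(.node (nat_lit 54) (.leaf (nat_lit 0xd5a4d45c380f306f657889f1ba6c34241905b50496080ef247e121673a1d70aafafecdef8d52dfaa93b96226c7f38376))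
(.leaf (nat_lit 0xacb38f98275418c26404765bed7169f5e970a1c5920d1b8400dcaf9eab6042cd6354ada1ebf6a2cf44d8e5fc48e3cfb7)))))
(.node (nat_lit 59) (.node (nat_lit 57) (.node (nat_lit 56) (.leaf (nat_lit 0x46e330a67b19d4eb6042553d7920e66fb1cffdabd716b2f34f23560b926405d19fc48eb4da873c12103eaa354ade2638))
(.leaf (nat_lit 0x90e28bdc166c1eea82ac57041a8ec9d03d4860057a950c22763c5f8389919d379634f5dbf92521f7c6b6b72bcca73ff9)))
(.node (nat_lit 58) (.leaf (nat_lit 0x19c0194859303b56c7eca0952e93e1b508032415ef9d378dad8cf4504fec688476a1de167f1ba3e6632afbcf658b7cba))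
(.leaf (nat_lit 0xcfcf926747cdbc4b3feb7e50b51c832d58e1bb150ea98db09931855f51db8b8a5e97d20c9012600ab5a701c76868a3fb))))
(.node (nat_lit 61) (.node (nat_lit 60) (.leaf (nat_lit 0x3b185d192a7ad3a1d7243c9056097c6e21454b866c356aa384f920d8f657a03226c78e9ded438caf44dcfafecd9fe7c))
(.leaf (nat_lit 0x647146cc02d1094d9c7413b890dad87c8b938ca139303b293e14bed57f1e950c1b8bb56ab77809bf29d6d3fe9aa319bd)))
(.node (nat_lit 62) (.leaf (nat_lit 0x1c075cebb08829e10518f04d3892db9a7465aaba1f81a0e3936f7cb2249350c417619a55cafc16b77bb8ff3d35879c7e))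
(.leaf (nat_lit 0x15d640f8604c3c38bb1cbae32aa384de0435e24632454956097d334e1e9ab2e9e8d9c24dc5f2159b9c294bdf1e6edbff)))))))),
  (nat_lit 0xf3eebf1fd9897e2d74cefb70caec6c39635b9f994b576860dde71da1a6585ea8d44d24500aba4c901e08ec61440cf280),
  (nat_lit 0x8a17de71a5955554d249249145041038d34d30c30a2492482081c71c71441041030c30c3082082041041040000000000),
  (nat_lit 0xc30841840c50c21861420451061021861411440461420461021851031861420461440811851031851030861440c2041),
  [nat_lit 1, nat_lit 2, nat_lit 3, nat_lit 4, nat_lit 5, nat_lit 6]⟩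

theorem okA0 : rt.chkA 1 = true := by decide +kernel
theorem okA1 : rt.chkA 2 = true := by decide +kernel
theorem okA2 : rt.chkA 3 = true := by decide +kernel
theorem okA3 : rt.chkA 4 = true := by decide +kernel
theorem okA4 : rt.chkA 5 = true := by decide +kernel
theorem okA5 : rt.chkA 6 = true := by decide +kernel
theorem okB : rt.chkB = true := by decide +kernel
noncomputable def tb : GT := ⟨rt, List.forall_mem_cons.2 ⟨okA0, List.forall_mem_cons.2 ⟨okA1, List.forall_mem_cons.2 ⟨okA2, List.forall_mem_cons.2 ⟨okA3, List.forall_mem_cons.2 ⟨okA4, List.forall_mem_cons.2 ⟨okA5, fun _ h => absurd h List.not_mem_nil⟩⟩⟩⟩⟩⟩, okB⟩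

theorem hom_chk : homChk tb (nat_lit 0xffdfbc3fbdddd6beb9e36d33cafbad6177e6c70b1246aa689e528e9238a181e71b69959011551334230b2481c6143040) 64 WOE.tab = true := by decide +kernel

/-- the group -/
abbrev E : Type := El tb

noncomputable def a : E := El.of tb 1
noncomputable def b : E := El.of tb 2
noncomputable def c : E := El.of tb 3
noncomputable def d : E := El.of tb 4
noncomputable def p : E := El.of tb 5
noncomputable def q : E := El.of tb 6

theorem card : Nat.card E = 64 := El.card tb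

theorem eq_top {K : Subgroup E} (h0 : a ∈ K) (h1 : b ∈ K) (h2 : c ∈ K) (h3 : d ∈ K) (h4 : p ∈ K) (h5 : q ∈ K) : K = ⊤ :=
  El.eq_top (List.forall_mem_cons.2 ⟨h0, List.forall_mem_cons.2 ⟨h1, List.forall_mem_cons.2 ⟨h2, List.forall_mem_cons.2 ⟨h3, List.forall_mem_cons.2 ⟨h4, List.forall_mem_cons.2 ⟨h5, fun _ h => absurd h List.not_mem_nil⟩⟩⟩⟩⟩⟩)

/-- the relations -/
def Rel {G : Type*} [Group G] (a b c d p q : G) : Prop :=
  p * p = 1 ∧
  q * q = 1 ∧
  p * q = q * p ∧
  c * c = 1 ∧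
  d * d = 1 ∧
  c * d = d * c ∧
  c * p = p * c ∧
  c * q = q * c ∧
  d * p = p * d ∧
  d * q = q * d ∧
  a * p = p * a ∧
  a * q = q * a ∧
  b * p = p * b ∧
  b * q = q * b ∧
  a * b = b * a ∧
  a * a = p ∧
  b * b = q ∧
  a * c * a⁻¹ = c * p ∧
  a * d * a⁻¹ = d * q ∧
  b * c * b⁻¹ = c * q ∧
  b * d * b⁻¹ = d * (p * q)

instance {G : Type*} [Group G] [DecidableEq G] (a b c d p q : G) : Decidable (Rel a b c d p q) := by
  unfold Rel; infer_instance

theorem Rel.map {G G' : Type*} [Group G] [Group G'] (f : G →* G') {a b c d p q : G}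
    (h : Rel a b c d p q) : Rel (f a) (f b) (f c) (f d) (f p) (f q) := by
  obtain ⟨h0, h1, h2, h3, h4, h5, h6, h7, h8, h9, h10, h11, h12, h13, h14, h15, h16, h17, h18, h19, h20⟩ := h
  exact ⟨by simpa only [map_mul, map_inv, map_one] using congrArg f h0,
    by simpa only [map_mul, map_inv, map_one] using congrArg f h1,
    by simpa only [map_mul, map_inv, map_one] using congrArg f h2,
    by simpa only [map_mul, map_inv, map_one] using congrArg f h3,
    by simpa only [map_mul, map_inv, map_one] using congrArg f h4,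
    by simpa only [map_mul, map_inv, map_one] using congrArg f h5,
    by simpa only [map_mul, map_inv, map_one] using congrArg f h6,
    by simpa only [map_mul, map_inv, map_one] using congrArg f h7,
    by simpa only [map_mul, map_inv, map_one] using congrArg f h8,
    by simpa only [map_mul, map_inv, map_one] using congrArg f h9,
    by simpa only [map_mul, map_inv, map_one] using congrArg f h10,
    by simpa only [map_mul, map_inv, map_one] using congrArg f h11,
    by simpa only [map_mul, map_inv, map_one] using congrArg f h12,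
    by simpa only [map_mul, map_inv, map_one] using congrArg f h13,
    by simpa only [map_mul, map_inv, map_one] using congrArg f h14,
    by simpa only [map_mul, map_inv, map_one] using congrArg f h15,
    by simpa only [map_mul, map_inv, map_one] using congrArg f h16,
    by simpa only [map_mul, map_inv, map_one] using congrArg f h17,
    by simpa only [map_mul, map_inv, map_one] using congrArg f h18,
    by simpa only [map_mul, map_inv, map_one] using congrArg f h19,
    by simpa only [map_mul, map_inv, map_one] using congrArg f h20⟩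

theorem Rel.of_map {G G' : Type*} [Group G] [Group G'] {f : G →* G'} (hf : Function.Injective f)
    {a b c d p q : G} (h : Rel (f a) (f b) (f c) (f d) (f p) (f q)) : Rel a b c d p q := by
  obtain ⟨h0, h1, h2, h3, h4, h5, h6, h7, h8, h9, h10, h11, h12, h13, h14, h15, h16, h17, h18, h19, h20⟩ := h
  exact ⟨hf (by simpa only [map_mul, map_inv, map_one] using h0),
    hf (by simpa only [map_mul, map_inv, map_one] using h1),
    hf (by simpa only [map_mul, map_inv, map_one] using h2),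
    hf (by simpa only [map_mul, map_inv, map_one] using h3),
    hf (by simpa only [map_mul, map_inv, map_one] using h4),
    hf (by simpa only [map_mul, map_inv, map_one] using h5),
    hf (by simpa only [map_mul, map_inv, map_one] using h6),
    hf (by simpa only [map_mul, map_inv, map_one] using h7),
    hf (by simpa only [map_mul, map_inv, map_one] using h8),
    hf (by simpa only [map_mul, map_inv, map_one] using h9),
    hf (by simpa only [map_mul, map_inv, map_one] using h10),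
    hf (by simpa only [map_mul, map_inv, map_one] using h11),
    hf (by simpa only [map_mul, map_inv, map_one] using h12),
    hf (by simpa only [map_mul, map_inv, map_one] using h13),
    hf (by simpa only [map_mul, map_inv, map_one] using h14),
    hf (by simpa only [map_mul, map_inv, map_one] using h15),
    hf (by simpa only [map_mul, map_inv, map_one] using h16),
    hf (by simpa only [map_mul, map_inv, map_one] using h17),
    hf (by simpa only [map_mul, map_inv, map_one] using h18),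
    hf (by simpa only [map_mul, map_inv, map_one] using h19),
    hf (by simpa only [map_mul, map_inv, map_one] using h20)⟩

theorem Rel.prod {G G' : Type*} [Group G] [Group G'] {a b c d p q : G} {a' b' c' d' p' q' : G'}
    (h : Rel a b c d p q) (k : Rel a' b' c' d' p' q') :
    Rel (a, a') (b, b') (c, c') (d, d') (p, p') (q, q') := by
  obtain ⟨h0, h1, h2, h3, h4, h5, h6, h7, h8, h9, h10, h11, h12, h13, h14, h15, h16, h17, h18, h19, h20⟩ := h
  obtain ⟨k0, k1, k2, k3, k4, k5, k6, k7, k8, k9, k10, k11, k12, k13, k14, k15, k16, k17, k18, k19, k20⟩ := k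
  exact ⟨Prod.ext h0 k0, Prod.ext h1 k1, Prod.ext h2 k2, Prod.ext h3 k3, Prod.ext h4 k4, Prod.ext h5 k5, Prod.ext h6 k6, Prod.ext h7 k7, Prod.ext h8 k8, Prod.ext h9 k9, Prod.ext h10 k10, Prod.ext h11 k11, Prod.ext h12 k12, Prod.ext h13 k13, Prod.ext h14 k14, Prod.ext h15 k15, Prod.ext h16 k16, Prod.ext h17 k17, Prod.ext h18 k18, Prod.ext h19 k19, Prod.ext h20 k20⟩

theorem Rel.sat {G : Type*} [Group G] {a b c d p q : G} (h : Rel a b c d p q) :
    ∀ R ∈ WOE.rels, ev (lt [a, b, c, d, p, q]) R = 1 := by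
  obtain ⟨h0, h1, h2, h3, h4, h5, h6, h7, h8, h9, h10, h11, h12, h13, h14, h15, h16, h17, h18, h19, h20⟩ := h
  exact List.forall_mem_cons.2 ⟨show p * (p * 1) = 1 by
      simpa only [mul_assoc, mul_inv_rev, inv_inv, inv_one, mul_one, one_mul] using mul_inv_eq_one.2 h0,
    List.forall_mem_cons.2 ⟨show q * (q * 1) = 1 by
      simpa only [mul_assoc, mul_inv_rev, inv_inv, inv_one, mul_one, one_mul] using mul_inv_eq_one.2 h1,
    List.forall_mem_cons.2 ⟨show p * (q * (p⁻¹ * (q⁻¹ * 1))) = 1 by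
      simpa only [mul_assoc, mul_inv_rev, inv_inv, inv_one, mul_one, one_mul] using mul_inv_eq_one.2 h2,
    List.forall_mem_cons.2 ⟨show c * (c * 1) = 1 by
      simpa only [mul_assoc, mul_inv_rev, inv_inv, inv_one, mul_one, one_mul] using mul_inv_eq_one.2 h3,
    List.forall_mem_cons.2 ⟨show d * (d * 1) = 1 by
      simpa only [mul_assoc, mul_inv_rev, inv_inv, inv_one, mul_one, one_mul] using mul_inv_eq_one.2 h4,
    List.forall_mem_cons.2 ⟨show c * (d * (c⁻¹ * (d⁻¹ * 1))) = 1 by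
      simpa only [mul_assoc, mul_inv_rev, inv_inv, inv_one, mul_one, one_mul] using mul_inv_eq_one.2 h5,
    List.forall_mem_cons.2 ⟨show c * (p * (c⁻¹ * (p⁻¹ * 1))) = 1 by
      simpa only [mul_assoc, mul_inv_rev, inv_inv, inv_one, mul_one, one_mul] using mul_inv_eq_one.2 h6,
    List.forall_mem_cons.2 ⟨show c * (q * (c⁻¹ * (q⁻¹ * 1))) = 1 by
      simpa only [mul_assoc, mul_inv_rev, inv_inv, inv_one, mul_one, one_mul] using mul_inv_eq_one.2 h7,
    List.forall_mem_cons.2 ⟨show d * (p * (d⁻¹ * (p⁻¹ * 1))) = 1 by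
      simpa only [mul_assoc, mul_inv_rev, inv_inv, inv_one, mul_one, one_mul] using mul_inv_eq_one.2 h8,
    List.forall_mem_cons.2 ⟨show d * (q * (d⁻¹ * (q⁻¹ * 1))) = 1 by
      simpa only [mul_assoc, mul_inv_rev, inv_inv, inv_one, mul_one, one_mul] using mul_inv_eq_one.2 h9,
    List.forall_mem_cons.2 ⟨show a * (p * (a⁻¹ * (p⁻¹ * 1))) = 1 by
      simpa only [mul_assoc, mul_inv_rev, inv_inv, inv_one, mul_one, one_mul] using mul_inv_eq_one.2 h10,
    List.forall_mem_cons.2 ⟨show a * (q * (a⁻¹ * (q⁻¹ * 1))) = 1 by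
      simpa only [mul_assoc, mul_inv_rev, inv_inv, inv_one, mul_one, one_mul] using mul_inv_eq_one.2 h11,
    List.forall_mem_cons.2 ⟨show b * (p * (b⁻¹ * (p⁻¹ * 1))) = 1 by
      simpa only [mul_assoc, mul_inv_rev, inv_inv, inv_one, mul_one, one_mul] using mul_inv_eq_one.2 h12,
    List.forall_mem_cons.2 ⟨show b * (q * (b⁻¹ * (q⁻¹ * 1))) = 1 by
      simpa only [mul_assoc, mul_inv_rev, inv_inv, inv_one, mul_one, one_mul] using mul_inv_eq_one.2 h13,
    List.forall_mem_cons.2 ⟨show a * (b * (a⁻¹ * (b⁻¹ * 1))) = 1 by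
      simpa only [mul_assoc, mul_inv_rev, inv_inv, inv_one, mul_one, one_mul] using mul_inv_eq_one.2 h14,
    List.forall_mem_cons.2 ⟨show a * (a * (p⁻¹ * 1)) = 1 by
      simpa only [mul_assoc, mul_inv_rev, inv_inv, inv_one, mul_one, one_mul] using mul_inv_eq_one.2 h15,
    List.forall_mem_cons.2 ⟨show b * (b * (q⁻¹ * 1)) = 1 by
      simpa only [mul_assoc, mul_inv_rev, inv_inv, inv_one, mul_one, one_mul] using mul_inv_eq_one.2 h16,
    List.forall_mem_cons.2 ⟨show a * (c * (a⁻¹ * (p⁻¹ * (c⁻¹ * 1)))) = 1 by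
      simpa only [mul_assoc, mul_inv_rev, inv_inv, inv_one, mul_one, one_mul] using mul_inv_eq_one.2 h17,
    List.forall_mem_cons.2 ⟨show a * (d * (a⁻¹ * (q⁻¹ * (d⁻¹ * 1)))) = 1 by
      simpa only [mul_assoc, mul_inv_rev, inv_inv, inv_one, mul_one, one_mul] using mul_inv_eq_one.2 h18,
    List.forall_mem_cons.2 ⟨show b * (c * (b⁻¹ * (q⁻¹ * (c⁻¹ * 1)))) = 1 by
      simpa only [mul_assoc, mul_inv_rev, inv_inv, inv_one, mul_one, one_mul] using mul_inv_eq_one.2 h19,
    List.forall_mem_cons.2 ⟨show b * (d * (b⁻¹ * (q⁻¹ * (p⁻¹ * (d⁻¹ * 1))))) = 1 by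
      simpa only [mul_assoc, mul_inv_rev, inv_inv, inv_one, mul_one, one_mul] using mul_inv_eq_one.2 h20,
    fun _ h => absurd h List.not_mem_nil⟩⟩⟩⟩⟩⟩⟩⟩⟩⟩⟩⟩⟩⟩⟩⟩⟩⟩⟩⟩⟩

theorem Rel.of_sat {G : Type*} [Group G] {a b c d p q : G}
    (h : ∀ R ∈ WOE.rels, ev (lt [a, b, c, d, p, q]) R = 1) : Rel a b c d p q := by
  obtain ⟨h0, h⟩ := List.forall_mem_cons.1 h
  obtain ⟨h1, h⟩ := List.forall_mem_cons.1 h
  obtain ⟨h2, h⟩ := List.forall_mem_cons.1 h
  obtain ⟨h3, h⟩ := List.forall_mem_cons.1 h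
  obtain ⟨h4, h⟩ := List.forall_mem_cons.1 h
  obtain ⟨h5, h⟩ := List.forall_mem_cons.1 h
  obtain ⟨h6, h⟩ := List.forall_mem_cons.1 h
  obtain ⟨h7, h⟩ := List.forall_mem_cons.1 h
  obtain ⟨h8, h⟩ := List.forall_mem_cons.1 h
  obtain ⟨h9, h⟩ := List.forall_mem_cons.1 h
  obtain ⟨h10, h⟩ := List.forall_mem_cons.1 h
  obtain ⟨h11, h⟩ := List.forall_mem_cons.1 h
  obtain ⟨h12, h⟩ := List.forall_mem_cons.1 h
  obtain ⟨h13, h⟩ := List.forall_mem_cons.1 h
  obtain ⟨h14, h⟩ := List.forall_mem_cons.1 h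
  obtain ⟨h15, h⟩ := List.forall_mem_cons.1 h
  obtain ⟨h16, h⟩ := List.forall_mem_cons.1 h
  obtain ⟨h17, h⟩ := List.forall_mem_cons.1 h
  obtain ⟨h18, h⟩ := List.forall_mem_cons.1 h
  obtain ⟨h19, h⟩ := List.forall_mem_cons.1 h
  obtain ⟨h20, h⟩ := List.forall_mem_cons.1 h
  exact ⟨mul_inv_eq_one.1 (by simpa only [mul_assoc, mul_inv_rev, inv_inv, inv_one, mul_one, one_mul] using (show p * (p * 1) = 1 from h0)),
    mul_inv_eq_one.1 (by simpa only [mul_assoc, mul_inv_rev, inv_inv, inv_one, mul_one, one_mul] using (show q * (q * 1) = 1 from h1)),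
    mul_inv_eq_one.1 (by simpa only [mul_assoc, mul_inv_rev, inv_inv, inv_one, mul_one, one_mul] using (show p * (q * (p⁻¹ * (q⁻¹ * 1))) = 1 from h2)),
    mul_inv_eq_one.1 (by simpa only [mul_assoc, mul_inv_rev, inv_inv, inv_one, mul_one, one_mul] using (show c * (c * 1) = 1 from h3)),
    mul_inv_eq_one.1 (by simpa only [mul_assoc, mul_inv_rev, inv_inv, inv_one, mul_one, one_mul] using (show d * (d * 1) = 1 from h4)),
    mul_inv_eq_one.1 (by simpa only [mul_assoc, mul_inv_rev, inv_inv, inv_one, mul_one, one_mul] using (show c * (d * (c⁻¹ * (d⁻¹ * 1))) = 1 from h5)),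
    mul_inv_eq_one.1 (by simpa only [mul_assoc, mul_inv_rev, inv_inv, inv_one, mul_one, one_mul] using (show c * (p * (c⁻¹ * (p⁻¹ * 1))) = 1 from h6)),
    mul_inv_eq_one.1 (by simpa only [mul_assoc, mul_inv_rev, inv_inv, inv_one, mul_one, one_mul] using (show c * (q * (c⁻¹ * (q⁻¹ * 1))) = 1 from h7)),
    mul_inv_eq_one.1 (by simpa only [mul_assoc, mul_inv_rev, inv_inv, inv_one, mul_one, one_mul] using (show d * (p * (d⁻¹ * (p⁻¹ * 1))) = 1 from h8)),
    mul_inv_eq_one.1 (by simpa only [mul_assoc, mul_inv_rev, inv_inv, inv_one, mul_one, one_mul] using (show d * (q * (d⁻¹ * (q⁻¹ * 1))) = 1 from h9)),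
    mul_inv_eq_one.1 (by simpa only [mul_assoc, mul_inv_rev, inv_inv, inv_one, mul_one, one_mul] using (show a * (p * (a⁻¹ * (p⁻¹ * 1))) = 1 from h10)),
    mul_inv_eq_one.1 (by simpa only [mul_assoc, mul_inv_rev, inv_inv, inv_one, mul_one, one_mul] using (show a * (q * (a⁻¹ * (q⁻¹ * 1))) = 1 from h11)),
    mul_inv_eq_one.1 (by simpa only [mul_assoc, mul_inv_rev, inv_inv, inv_one, mul_one, one_mul] using (show b * (p * (b⁻¹ * (p⁻¹ * 1))) = 1 from h12)),
    mul_inv_eq_one.1 (by simpa only [mul_assoc, mul_inv_rev, inv_inv, inv_one, mul_one, one_mul] using (show b * (q * (b⁻¹ * (q⁻¹ * 1))) = 1 from h13)),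
    mul_inv_eq_one.1 (by simpa only [mul_assoc, mul_inv_rev, inv_inv, inv_one, mul_one, one_mul] using (show a * (b * (a⁻¹ * (b⁻¹ * 1))) = 1 from h14)),
    mul_inv_eq_one.1 (by simpa only [mul_assoc, mul_inv_rev, inv_inv, inv_one, mul_one, one_mul] using (show a * (a * (p⁻¹ * 1)) = 1 from h15)),
    mul_inv_eq_one.1 (by simpa only [mul_assoc, mul_inv_rev, inv_inv, inv_one, mul_one, one_mul] using (show b * (b * (q⁻¹ * 1)) = 1 from h16)),
    mul_inv_eq_one.1 (by simpa only [mul_assoc, mul_inv_rev, inv_inv, inv_one, mul_one, one_mul] using (show a * (c * (a⁻¹ * (p⁻¹ * (c⁻¹ * 1)))) = 1 from h17)),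
    mul_inv_eq_one.1 (by simpa only [mul_assoc, mul_inv_rev, inv_inv, inv_one, mul_one, one_mul] using (show a * (d * (a⁻¹ * (q⁻¹ * (d⁻¹ * 1)))) = 1 from h18)),
    mul_inv_eq_one.1 (by simpa only [mul_assoc, mul_inv_rev, inv_inv, inv_one, mul_one, one_mul] using (show b * (c * (b⁻¹ * (q⁻¹ * (c⁻¹ * 1)))) = 1 from h19)),
    mul_inv_eq_one.1 (by simpa only [mul_assoc, mul_inv_rev, inv_inv, inv_one, mul_one, one_mul] using (show b * (d * (b⁻¹ * (q⁻¹ * (p⁻¹ * (d⁻¹ * 1))))) = 1 from h20))⟩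

theorem rel : Rel a b c d p q := by decide +kernel

theorem model {G : Type*} [Group G] {a' b' c' d' p' q' : G} (h : Rel a' b' c' d' p' q') :
    ∃ φ : E →* G, φ a = a' ∧ φ b = b' ∧ φ c = c' ∧ φ d = d' ∧ φ p = p' ∧ φ q = q' := by
  obtain ⟨pt, h0, -, hT⟩ := WOE.enum (lt [a', b', c', d', p', q']) (1 : G)
    (lt_icol _ _ (k := 6) rfl (by decide +kernel)) (lt_ge le_rfl) h.sat
    (fun _ h => absurd h List.not_mem_nil)
  obtain ⟨φ, hφ⟩ := exists_hom tb (l := [a', b', c', d', p', q']) rfl h0 hT hom_chk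
  exact ⟨φ, by simpa only [List.cons.injEq, and_true] using
    (show [φ a, φ b, φ c, φ d, φ p, φ q] = [a', b', c', d', p', q'] from hφ)⟩

end H69.WO
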